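import Mathlib
import Groth.Agent.Lib.Helper19.OpenSub
import Groth.Agent.Lib.Helper19.SubSt
import Groth.Agent.Lib.Helper19.LocEq
import Groth.Agent.Lib.Helper15.AlgSpBasic

/-!
# A stack covered by open substacks fibred in setoids is fibred in setoids (helper19)
-/

set_option autoImplicit false
set_option backward.isDefEq.respectTransparency false

universe w u

open CategoryTheory CategoryTheory.Limits Functor AlgebraicGeometry Opposite TopologicalSpace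

namespace Groth.Agent.Helper19.OpenCov

open FibCat AlgSt Stk Groth.Agent.Helper19.FibLib Groth.Agent.Helper19.StLib Groth.Agent.Helper19.StPts
  Groth.Agent.Helper19.OpenSub Groth.Agent.Helper19.EssImg

variable {S : Scheme.{u}} {𝒳 : AlgSt.Cat S}

/-- the open subschemes of a chart cut out by a family of open substacks covering the stack form an fppf covering. -/
theorem ofArrows_chartOpen_mem_J (h𝒳 : IsAlgStack Scheme.fppfPrecoverage 𝒳) {ι : Type w}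
    (R : ι → Set (Points 𝒳)) (hR : ∀ i, IsOpen (R i)) (hcov : ⋃ i, R i = Set.univ)
    {U : Over S} (x : overCat U ⥤ᵇ 𝒳) :
    Sieve.ofArrows (fun i => opSub (chartOpen h𝒳 x (R i) (hR i)))
      (fun i => opIncl (chartOpen h𝒳 x (R i) (hR i))) ∈ (AlgSp.J S) U := by
  apply Groth.Agent.Helper15.ofArrows_mem_J
  · intro i
    change Flat (chartOpen h𝒳 x (R i) (hR i)).ι
    infer_instance
  · intro i
    change LocallyOfFinitePresentation (chartOpen h𝒳 x (R i) (hR i)).ι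
    infer_instance
  · intro u
    have hu : Points.ofChart x u ∈ ⋃ i, R i := by rw [hcov]; trivial
    obtain ⟨i, hi⟩ := Set.mem_iUnion.1 hu
    exact ⟨i, ⟨u, hi⟩, rfl⟩

/-- an object with a morphism to the chart object over an arrow through the open subscheme cut out by `T` lies in
the substack cut out by `T`. -/
theorem ofSet_of_hom_chart (h𝒳 : IsAlgStack Scheme.fppfPrecoverage 𝒳) (T : Set (Points 𝒳)) (hT : IsOpen T)
    {U : Over S} (x : overCat U ⥤ᵇ 𝒳) {t : 𝒳.obj} (θ : x.obj (Over.mk (𝟙 U)) ≅ t)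
    [𝒳.p.IsHomLift (𝟙 U) θ.hom]
    {V : Over S} (g : V ⟶ opSub (chartOpen h𝒳 x T hT)) (s : 𝒳.obj) (χ : s ⟶ t)
    [𝒳.p.IsHomLift (g ≫ opIncl (chartOpen h𝒳 x T hT)) χ] : ofSet T s := by
  let W := chartOpen h𝒳 x T hT
  have hW := mem_chartOpen h𝒳 x T hT
  have h1 := ofSet_opIncl x T W h𝒳.isStack.1 hW (Over.mk g)
  let f : V ⟶ U := g ≫ opIncl W
  let m : (overMap (opIncl W)).obj (Over.mk g) ⟶ Over.mk (𝟙 U) := Over.homMk f (by simp [f, overMap])
  have hm : (overCat U).p.IsHomLift f m := IsHomLift.of_fac _ _ _ rfl rfl (by simp; rfl)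
  have hxm : 𝒳.p.IsHomLift f (x.map m) := inferInstance
  have hxm' : 𝒳.p.IsHomLift f (x.map m ≫ θ.hom) := by
    have h3 : 𝒳.p.IsHomLift (f ≫ 𝟙 U) (x.map m ≫ θ.hom) := inferInstance
    simpa using h3
  have hχ : 𝒳.p.IsHomLift f χ := inferInstanceAs (𝒳.p.IsHomLift (g ≫ opIncl W) χ)
  obtain ⟨ψ, -, -⟩ := existsUnique_fac h𝒳.isStack.1 f (x.map m ≫ θ.hom) (𝟙 V) f (by simp) χ
  exact ofSet_of_hom ψ h1

/-- **A stack covered by open substacks fibred in setoids is fibred in setoids.** -/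
theorem isFibSetoid_of_openCover (h𝒳 : IsAlgStack Scheme.fppfPrecoverage 𝒳) {ι : Type w} (Q : ι → 𝒳.obj → Prop)
    (hQ : ∀ i, IsOpenSubstack 𝒳 (Q i) Scheme.fppfPrecoverage)
    (hcov : ⋃ i, Set.range (Points.map (subIncl 𝒳 (Q i))) = Set.univ)
    (hset : ∀ i, IsFibSetoid (fullSub 𝒳 (Q i)).p) : IsFibSetoid 𝒳.p := by
  refine ⟨h𝒳.isStack.1, fun U t t' => ⟨fun a b => ?_⟩⟩
  apply Subtype.ext
  haveI ia : 𝒳.p.IsHomLift (𝟙 U) a.1 := a.2
  haveI ib : 𝒳.p.IsHomLift (𝟙 U) b.1 := b.2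
  obtain ⟨x, θ, hθ⟩ := Groth.Agent.Helper19.YonLib.exists_chart_of_obj h𝒳.isStack.1 t.1 t.2
  let R : ι → Set (Points 𝒳) := fun i => Set.range (Points.map (subIncl 𝒳 (Q i)))
  have hRo : ∀ i, IsOpen (R i) := fun i =>
    Groth.Agent.Helper19.SubSt.isOpen_range_of_isOpenSubstack h𝒳 (Q i) (hQ i)
  let Sv : Sieve U := Sieve.ofArrows (fun i => opSub (chartOpen h𝒳 x (R i) (hRo i)))
      (fun i => opIncl (chartOpen h𝒳 x (R i) (hRo i)))
  have hSv : Sv ∈ (AlgSp.J S) U := ofArrows_chartOpen_mem_J h𝒳 R hRo hcov x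
  have hfaith : (resSieve Sv 𝒳).Faithful := by
    have h1 : (resSieve Sv 𝒳).IsEquivalence := h𝒳.isStack.2 Sv hSv
    infer_instance
  apply Groth.Agent.Helper19.LocEq.hom_ext_of_locally h𝒳.isStack.1 Sv hfaith a.1 b.1
  intro V f hf s χ hχ
  obtain ⟨i, g, rfl⟩ := (Sieve.mem_ofArrows_iff _ _ _).1 hf
  haveI := hχ
  have hs0 : ofSet (R i) s := ofSet_of_hom_chart h𝒳 (R i) (hRo i) x θ g s χ
  have hs : Q i s := by
    rw [← ofSet_range_eq h𝒳 (Q i) (hQ i)]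
    exact hs0
  let f : V ⟶ U := g ≫ opIncl (chartOpen h𝒳 x (R i) (hRo i))
  have hχf : 𝒳.p.IsHomLift f χ := hχ
  have hsV : 𝒳.p.obj s = V := IsHomLift.domain_eq 𝒳.p f χ
  have hχa : 𝒳.p.IsHomLift f (χ ≫ a.1) := by
    have h3 : 𝒳.p.IsHomLift (f ≫ 𝟙 U) (χ ≫ a.1) := inferInstance
    simpa using h3
  have hχb : 𝒳.p.IsHomLift f (χ ≫ b.1) := by
    have h3 : 𝒳.p.IsHomLift (f ≫ 𝟙 U) (χ ≫ b.1) := inferInstance
    simpa using h3
  obtain ⟨γ, ⟨hγ, hγc⟩, -⟩ := existsUnique_fac h𝒳.isStack.1 f (χ ≫ b.1) (𝟙 V) f (by simp) (χ ≫ a.1)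
  -- `γ` is an automorphism in a thin fibre
  let s' : (fullSub 𝒳 (Q i)).obj := ⟨s, hs⟩
  let sF : (fullSub 𝒳 (Q i)).p.Fiber V := ⟨s', hsV⟩
  let γ' : s' ⟶ s' := ObjectProperty.homMk γ
  have hγ' : (fullSub 𝒳 (Q i)).p.IsHomLift (𝟙 V) γ' := (isHomLift_fullSub_iff (Q i) (𝟙 V) γ').2 hγ
  have hid' : (fullSub 𝒳 (Q i)).p.IsHomLift (𝟙 V) (𝟙 s') := IsHomLift.id hsV
  have hthin := (hset i).2 V
  have e1 : (⟨γ', hγ'⟩ : sF ⟶ sF) = ⟨𝟙 s', hid'⟩ := Subsingleton.elim _ _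
  have e2 : γ' = 𝟙 s' := congrArg Subtype.val e1
  have e3 : γ = 𝟙 s := congrArg (fun k => k.hom) e2
  rw [← hγc, e3, Category.id_comp]

end Groth.Agent.Helper19.OpenCov
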