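import Mathlib
import Groth.Agent.Lib.Helper19.OpenCov.Setoid
import Groth.Agent.Lib.Helper19.BootSt
import Groth.Agent.Lib.Helper19.StPtsQc
import Groth.Agent.Lib.Helper19.StPtsSp
import Groth.Agent.Lib.Helper15.AlgSpCoprod2
import Groth.Agent.S12810
import Groth.Agent.S12787

/-!
# An algebraic stack covered by open substacks which are algebraic spaces is an algebraic space (helper19)
-/

set_option autoImplicit false
set_option backward.isDefEq.respectTransparency false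

universe w u

open CategoryTheory CategoryTheory.Limits Functor AlgebraicGeometry Opposite TopologicalSpace MorphismProperty

namespace Groth.Agent.Helper19.OpenCov

open FibCat AlgSt Stk Groth.Agent.Helper19.FibLib Groth.Agent.Helper19.StLib Groth.Agent.Helper19.StPts
  Groth.Agent.Helper19.OpenSub Groth.Agent.Helper19.EssImg Groth.Agent.Helper19.PshSt
  Groth.Agent.Helper19.PshLib Groth.Agent.Helper19.FibSetPsh

variable {S : Scheme.{u}}

/-- a map of sheaves which is representable by algebraic spaces with base changes representable with `P` is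
representable with `P`. -/
theorem repWith_of_repBySpWith (P : MorphismProperty Scheme.{u}) [P.IsStableUnderBaseChange] [P.RespectsIso]
    {A G : AlgSp.Sp S} (a : A ⟶ G) (h : AlgSp.RepBySpWith (AlgSp.RepWith P) a.hom) : AlgSp.RepWith P a := by
  rw [AlgSp.repBySpWith_hom_iff] at h
  haveI : (P.inverseImage (Over.forget S)).RespectsIso := RespectsIso.inverseImage P _
  apply MorphismProperty.relative.of_exists
  intro T g
  have sq := IsPullback.of_hasPullback a g
  obtain ⟨-, hsnd⟩ := h g (pullback.fst a g) (pullback.snd a g) sq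
  have hrep := hsnd.rep
  let ξ : (AlgSp.yon S).obj T ⟶ (AlgSp.yon S).obj T := 𝟙 _
  have sq2 := hrep.isPullback ξ
  have sq3 := sq2.paste_horiz sq
  rw [Category.id_comp] at sq3
  exact ⟨hrep.pullback ξ, hrep.fst ξ ≫ pullback.fst a g, hrep.snd ξ, sq3, hsnd.property_snd ξ⟩

/-- a stack in setoids for the fppf topology is the category of an fppf sheaf. -/
theorem exists_sheaf_equiv {𝒳 : AlgSt.Cat S} (h𝒳 : Stk.IsStack (AlgSp.J S) 𝒳) (hset : IsFibSetoid 𝒳.p) :
    ∃ (F : AlgSp.Sp S) (e : 𝒳 ⥤ᵇ ofSp F), IsEquivOver e := by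
  obtain ⟨F₀, e, he⟩ := exists_psh_of_isFibSetoid hset
  have h1 := (Groth.Agent.S12810.result (AlgSp.J S) e he).1 ⟨h𝒳, hset⟩
  have h2 : Presieve.IsSheaf (AlgSp.J S) F₀ := (isStack_ofPsh_iff _ F₀).1 h1.1
  have h3 : Presheaf.IsSheaf (AlgSp.J S) F₀ := (isSheaf_iff_isSheaf_of_type _ _).2 h2
  exact ⟨⟨F₀, h3⟩, e, he⟩

/-- **The sheaf of an algebraic stack covered by open substacks which are categories of sheaves**: the stack is the
category of a sheaf `F`, the sheaves of the substacks map to `F` by open immersions, and a subfamily indexed in the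
universe of the base covers the points of `F`. -/
theorem exists_sheaf_openCover {𝒳 : AlgSt.Cat S} (h𝒳 : IsAlgStack Scheme.fppfPrecoverage 𝒳) {ι : Type w}
    (Q : ι → 𝒳.obj → Prop) (hQ : ∀ i, IsOpenSubstack 𝒳 (Q i) Scheme.fppfPrecoverage)
    (hcov : ⋃ i, Set.range (Points.map (subIncl 𝒳 (Q i))) = Set.univ)
    (Fi : ι → AlgSp.Space S) (ei : ∀ i, ofSp (Fi i).obj ⥤ᵇ fullSub 𝒳 (Q i)) (hei : ∀ i, IsEquivOver (ei i)) :
    ∃ (F : AlgSp.Sp S) (E' : ofSp F ⥤ᵇ 𝒳) (_ : IsEquivOver E') (κ : Type u) (idx : κ → ι)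
      (a : ∀ i, (Fi i).obj ⟶ F), (∀ i, AlgSp.RepWith @IsOpenImmersion (a i)) ∧
        ∀ y : AlgSp.Points F, ∃ k, y ∈ Set.range (AlgSp.Points.map (a (idx k))) := by
  have hsp : ∀ i, RepByAlgSp (fullSub 𝒳 (Q i)) := fun i => ⟨Fi i, ei i, hei i⟩
  have hset : IsFibSetoid 𝒳.p := isFibSetoid_of_openCover h𝒳 Q hQ hcov
    (fun i => Groth.Agent.S12787.result (hQ i).2.1.isStack.1 (hsp i))
  obtain ⟨F, E, hE⟩ := exists_sheaf_equiv h𝒳.isStack hset
  obtain ⟨E', hE', -, -⟩ := IsEquivOver.exists_inv hE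
  obtain ⟨U₀, x₀, -, hsurj⟩ := h𝒳.atlas
  have hs₀ := surjective_ofChart_of_surjective h𝒳.isStack.1 U₀ x₀ hsurj
  have hi : ∀ u : ↥U₀.left, ∃ i, Points.ofChart x₀ u ∈ Set.range (Points.map (subIncl 𝒳 (Q i))) := by
    intro u
    have hu : Points.ofChart x₀ u ∈ ⋃ i, Set.range (Points.map (subIncl 𝒳 (Q i))) := by rw [hcov]; trivial
    exact Set.mem_iUnion.1 hu
  choose idx hidx using hi
  have ha : ∀ i, ∃ a : (Fi i).obj.obj ⟶ F.obj,
      Nonempty (BasedFunctor.comp (ofPshMap a) E' ≅ BasedFunctor.comp (ei i) (subIncl 𝒳 (Q i))) :=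
    fun i => exists_pshMap_of_rep (X := (Fi i).obj.obj) (Y := F.obj) (ei i) E' hE' (subIncl 𝒳 (Q i))
  choose a₀ θ using ha
  let a : ∀ i, (Fi i).obj ⟶ F := fun i => ObjectProperty.homMk (a₀ i)
  have hopen : ∀ i, AlgSp.RepWith @IsOpenImmersion (a i) := by
    intro i
    have h1 : RepByAlgSpWith (AlgSp.RepWith @IsOpenImmersion) (subIncl 𝒳 (Q i)) := (hQ i).2.2
    have h2 : RepByAlgSpWith (AlgSp.RepWith @IsOpenImmersion) (ofPshMap (a₀ i)) :=
      (repByAlgSpWith_iff_of_square (subIncl 𝒳 (Q i)) (ofPshMap (a₀ i)) (ei i) E' (hei i) hE'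
        (θ i).some).1 h1
    have h3 : AlgSp.RepBySpWith (AlgSp.RepWith @IsOpenImmersion) (a₀ i) := (repBySpWith_iff _ _).2 h2
    exact repWith_of_repBySpWith _ (a i) h3
  refine ⟨F, E', hE', ↥U₀.left, idx, a, hopen, ?_⟩
  intro y
  obtain ⟨u, hu⟩ := hs₀ (Points.map E' (ptsMap F y))
  obtain ⟨w, hw⟩ := hidx u
  refine ⟨u, ?_⟩
  obtain ⟨w', rfl⟩ := (mapHomeo (ei (idx u)) (hei (idx u))).surjective w
  obtain ⟨y', rfl⟩ := (ptsMap_bijective (Fi (idx u)).obj).2 w'
  refine ⟨y', ?_⟩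
  apply (ptsMap_bijective F).1
  apply (mapHomeo E' hE').injective
  rw [mapHomeo_apply, mapHomeo_apply, ← hu, ← hw, mapHomeo_apply,
    ptsMap_map, ← map_comp, ← map_comp]
  exact congrFun (map_congr (θ (idx u)).some) _

end Groth.Agent.Helper19.OpenCov
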